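import Cfsg.Agent.H24.Q5.Mat

/-!
# S5211, block q = 5, statement (M2) (helper117)
-/

set_option autoImplicit false

namespace Cfsg.Agent.H117.Q5

open Matrix Polynomial Cfsg.Agent.H24.Q5
open scoped Pointwise

theorem mz : ∀ a b : ZMod 5, a * b = 0 → a = 0 ∨ b = 0 := by decide

theorem pz : ∀ a : ZMod 5, a ^ 5 = 0 → a = 0 := by decide

/-! ### truncated logarithm and exponential in characteristic 5 -/

def lg {R : Type*} [Ring R] (x : R) : R := x + (x ^ 2 + x ^ 2) + (x ^ 3 + x ^ 3) + x ^ 4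

def ep {R : Type*} [Ring R] (x : R) : R := 1 + x + (x ^ 2 + x ^ 2 + x ^ 2) + x ^ 3 + (x ^ 4 + x ^ 4 + x ^ 4 + x ^ 4)

theorem five_poly : (5 : (ZMod 5)[X]) = 0 := by
  have : ((5 : ℕ) : (ZMod 5)[X]) = 0 := CharP.cast_eq_zero _ 5
  exact_mod_cast this

theorem ep_lg_poly : ∃ Q : (ZMod 5)[X], ep (lg (X : (ZMod 5)[X])) = 1 + X + X ^ 5 * Q :=
  ⟨80 + 187*X + 396*X^2 + 691*X^3 + 963*X^4 + 1066*X^5 + 934*X^6 + 641*X^7 + 336*X^8 + 128*X^9 + 32*X^10 + 4*X^11, by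
    unfold ep lg; linear_combination (X^2 + 3*X^3 + 7*X^4) * five_poly⟩

theorem lg_pow_poly (k : ℕ) (hk : k = 1 ∨ k = 2 ∨ k = 3 ∨ k = 4) :
    ∃ Q : (ZMod 5)[X], lg ((1 + X : (ZMod 5)[X]) ^ k - 1) = k • lg X + X ^ 5 * Q := by
  rcases hk with rfl | rfl | rfl | rfl
  · exact ⟨0, by unfold lg; rw [one_nsmul]; ring⟩
  · exact ⟨44 + 26*X + 8*X^2 + X^3, by
      unfold lg; rw [nsmul_eq_mul]; push_cast; linear_combination (X^2 + 4*X^3 + 8*X^4) * five_poly⟩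
  · exact ⟨552 + 758*X + 720*X^2 + 477*X^3 + 218*X^4 + 66*X^5 + 12*X^6 + X^7, by
      unfold lg; rw [nsmul_eq_mul]; push_cast; linear_combination (3*X^2 + 17*X^3 + 54*X^4) * five_poly⟩
  · exact ⟨2896 + 6216*X + 9872*X^2 + 11882*X^3 + 11000*X^4 + 7876*X^5 + 4344*X^6 + 1818*X^7 + 560*X^8 + 120*X^9
      + 16*X^10 + X^11, by
      unfold lg; rw [nsmul_eq_mul]; push_cast; linear_combination (6*X^2 + 44*X^3 + 193*X^4) * five_poly⟩

theorem lg_five_poly : ∃ Q : (ZMod 5)[X], (lg (X : (ZMod 5)[X])) ^ 5 = X ^ 5 * Q :=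
  ⟨(1 + 2 * X + 2 * X ^ 2 + X ^ 3) ^ 5, by unfold lg; ring⟩

theorem ep_sub_poly : ∃ Q : (ZMod 5)[X], (ep (X : (ZMod 5)[X]) - 1) ^ 3 = X ^ 3 * Q :=
  ⟨(1 + 3 * X + X ^ 2 + 4 * X ^ 3) ^ 3, by unfold ep; ring⟩

theorem sub_pow_poly : ((X : (ZMod 5)[X]) - 1) ^ 5 = X ^ 5 - 1 := by
  linear_combination (-X ^ 4 + 2 * X ^ 3 - 2 * X ^ 2 + X) * five_poly

theorem aeval_lg (x : M5) (f : (ZMod 5)[X]) : aeval x (lg f) = lg (aeval x f) := by
  simp [lg]

theorem aeval_ep (x : M5) (f : (ZMod 5)[X]) : aeval x (ep f) = ep (aeval x f) := by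
  simp [ep]

theorem sub_pow_five {v : M5} (h : v ^ 5 = 1) : (v - 1) ^ 5 = 0 := by
  have h1 := congrArg (aeval v) sub_pow_poly
  simp only [map_pow, map_sub, aeval_X, map_one] at h1
  rw [h1, h, sub_self]

theorem ep_lg {x : M5} (hx : x ^ 5 = 0) : ep (lg x) = 1 + x := by
  obtain ⟨Q, hQ⟩ := ep_lg_poly
  have h1 := congrArg (aeval x) hQ
  rw [aeval_ep, aeval_lg] at h1
  simp only [map_add, map_mul, map_pow, aeval_X, map_one, hx, zero_mul, add_zero] at h1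
  exact h1

theorem lg_pow {x : M5} (hx : x ^ 5 = 0) {k : ℕ} (hk : k = 1 ∨ k = 2 ∨ k = 3 ∨ k = 4) :
    lg ((1 + x) ^ k - 1) = k • lg x := by
  obtain ⟨Q, hQ⟩ := lg_pow_poly k hk
  have h1 := congrArg (aeval x) hQ
  rw [aeval_lg] at h1
  simp only [map_add, map_mul, map_pow, map_sub, map_nsmul, aeval_lg, aeval_X, map_one, hx, zero_mul, add_zero] at h1
  exact h1

theorem lg_five {x : M5} (hx : x ^ 5 = 0) : (lg x) ^ 5 = 0 := by
  obtain ⟨Q, hQ⟩ := lg_five_poly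
  have h1 := congrArg (aeval x) hQ
  simp only [map_mul, map_pow, aeval_lg, aeval_X, hx, zero_mul] at h1
  exact h1

theorem ep_sub {x : M5} (hx : x ^ 3 = 0) : (ep x - 1) ^ 3 = 0 := by
  obtain ⟨Q, hQ⟩ := ep_sub_poly
  have h1 := congrArg (aeval x) hQ
  simp only [map_mul, map_pow, map_sub, map_one, aeval_ep, aeval_X, hx, zero_mul] at h1
  exact h1

/-! ### weights -/

def dd : Fin 4 → ZMod 5 := ![3, 1, 2, 4]

theorem mh2_diag : mh2 = Matrix.diagonal dd := by decide +kernel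

theorem semi_lg {a x y : M5} (h : a * x = y * a) : a * lg x = lg y * a := by
  have h1 : SemiconjBy a x y := h
  have h2 := ((h1.add_right ((h1.pow_right 2).add_right (h1.pow_right 2))).add_right
    ((h1.pow_right 3).add_right (h1.pow_right 3))).add_right (h1.pow_right 4)
  exact h2

/-- the weight equation -/
theorem weight {v : M5ˣ} (h5 : v ^ 5 = 1) {k : ℕ} (hk : k = 1 ∨ k = 2 ∨ k = 3 ∨ k = 4)
    (hc : gh2 * v * gh2⁻¹ = v ^ k) (i j : Fin 4) :
    (dd i - k * dd j) * (lg ((v : M5) - 1)) i j = 0 := by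
  have h5' : (v : M5) ^ 5 = 1 := by
    have := congrArg (fun x : M5ˣ => (x : M5)) h5
    simpa using this
  have h1 : gh2 * v = v ^ k * gh2 := by rw [← hc]; group
  have h2 : mh2 * (v : M5) = (v : M5) ^ k * mh2 := by
    have := congrArg (fun x : M5ˣ => (x : M5)) h1
    simp only [Units.val_mul, Units.val_pow_eq_pow_val] at this
    exact this
  have h3 : mh2 * ((v : M5) - 1) = ((1 + ((v : M5) - 1)) ^ k - 1) * mh2 := by
    rw [mul_sub, sub_mul, mul_one, one_mul, h2, add_sub_cancel]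
  have h4 := semi_lg h3
  rw [lg_pow (sub_pow_five h5') hk, mh2_diag] at h4
  have h6 := congrFun (congrFun h4 i) j
  rw [Matrix.diagonal_mul, Matrix.mul_diagonal, Matrix.smul_apply, nsmul_eq_mul] at h6
  linear_combination h6

theorem Om_lg {v : M5ˣ} (h5 : v ^ 5 = 1) (hiso : (v : M5)ᵀ * Om * (v : M5) = Om) :
    Om * lg ((v : M5) - 1) = (4 • lg ((v : M5) - 1))ᵀ * Om := by
  have h5' : (v : M5) ^ 5 = 1 := by
    have := congrArg (fun x : M5ˣ => (x : M5)) h5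
    simpa using this
  -- `Om * v = (v ^ 4)ᵀ * Om`
  have h1 : Om * (v : M5) = ((v : M5) ^ 4)ᵀ * Om := by
    calc Om * (v : M5) = (((v : M5) ^ 4)ᵀ * (v : M5)ᵀ) * (Om * (v : M5)) := by
          rw [← Matrix.transpose_mul, ← pow_succ', h5', Matrix.transpose_one, one_mul]
      _ = ((v : M5) ^ 4)ᵀ * ((v : M5)ᵀ * Om * (v : M5)) := by simp only [mul_assoc]
      _ = _ := by rw [hiso]
  have h3 : Om * ((v : M5) - 1) = (((1 + ((v : M5) - 1)) ^ 4 - 1)ᵀ) * Om := by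
    rw [mul_sub, Matrix.transpose_sub, sub_mul, mul_one, Matrix.transpose_one, one_mul, h1, add_sub_cancel]
  have h4 := semi_lg h3
  have h6 : lg (((1 + ((v : M5) - 1)) ^ 4 - 1)ᵀ) = (lg ((1 + ((v : M5) - 1)) ^ 4 - 1))ᵀ := by
    unfold lg
    simp only [Matrix.transpose_add, Matrix.transpose_pow]
  rw [h6, lg_pow (sub_pow_five h5') (Or.inr (Or.inr (Or.inr rfl)))] at h4
  exact h4

/-! ### the shape of `n = lg (v - 1)` -/

structure Good (v : M5ˣ) (k : ℕ) : Prop where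
  five : v ^ 5 = 1
  conj : gh2 * v * gh2⁻¹ = v ^ k
  iso : (v : M5)ᵀ * Om * (v : M5) = Om
  cube : ((v : M5) - 1) ^ 3 ≠ 0

theorem Good.five' {v : M5ˣ} {k : ℕ} (h : Good v k) : (v : M5) ^ 5 = 1 := by
  have := congrArg (fun x : M5ˣ => (x : M5)) h.five
  simpa using this

theorem Good.eq_ep {v : M5ˣ} {k : ℕ} (h : Good v k) : (v : M5) = ep (lg ((v : M5) - 1)) := by
  rw [ep_lg (sub_pow_five h.five'), add_sub_cancel]

theorem Good.cube' {v : M5ˣ} {k : ℕ} (h : Good v k) : (lg ((v : M5) - 1)) ^ 3 ≠ 0 := by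
  intro h1
  have h2 := ep_sub h1
  rw [← h.eq_ep] at h2
  exact h.cube h2

theorem Good.lg5 {v : M5ˣ} {k : ℕ} (h : Good v k) : (lg ((v : M5) - 1)) ^ 5 = 0 :=
  lg_five (sub_pow_five h.five')

theorem mat_ext_of {n : M5} {f : Fin 4 → Fin 4 → ZMod 5} (h : ∀ i j, n i j = f i j) : n = Matrix.of f := by
  ext i j; exact h i j

theorem ne_zero_one : ∀ i j : Fin 4, i ≠ j → dd i - (1 : ℕ) * dd j ≠ 0 := by decide +kernel

theorem not_one {v : M5ˣ} (h : Good v 1) : False := by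
  have hw := weight h.five (Or.inl rfl) h.conj
  have h5 := h.lg5
  have h3 := h.cube'
  generalize lg ((v : M5) - 1) = n at hw h5 h3
  have h0 : ∀ i j, i ≠ j → n i j = 0 := fun i j hij => (mz _ _ (hw i j)).resolve_left (ne_zero_one i j hij)
  have hd : n = Matrix.diagonal (fun i => n i i) := by
    ext i j
    by_cases hij : i = j
    · subst hij; rw [Matrix.diagonal_apply_eq]
    · rw [Matrix.diagonal_apply_ne _ hij, h0 i j hij]
  rw [hd, Matrix.diagonal_pow] at h5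
  have h6 : ∀ i, n i i = 0 := by
    intro i
    have h7 := congrFun (congrFun h5 i) i
    rw [Matrix.diagonal_apply_eq, Pi.pow_apply, Matrix.zero_apply] at h7
    exact pz _ h7
  have h7 : n = 0 := by
    rw [hd]
    ext i j
    by_cases hij : i = j
    · subst hij; rw [Matrix.diagonal_apply_eq, h6]; rfl
    · rw [Matrix.diagonal_apply_ne _ hij]; rfl
  apply h3
  rw [h7]
  simp

theorem four_shape {v : M5ˣ} (h : Good v 4) : False := by
  have hw := weight h.five (Or.inr (Or.inr (Or.inr rfl))) h.conj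
  have h5 := h.lg5
  have h3 := h.cube'
  generalize lg ((v : M5) - 1) = n at hw h5 h3
  have h0 : ∀ i j : Fin 4, dd i - (4 : ℕ) * dd j ≠ 0 → n i j = 0 := fun i j hij =>
    (mz _ _ (hw i j)).resolve_left hij
  obtain ⟨a, b, c, d, e⟩ : ∃ a b c d : ZMod 5, n = !![0, 0, a, 0; 0, 0, 0, b; c, 0, 0, 0; 0, d, 0, 0] := by
    refine ⟨n 0 2, n 1 3, n 2 0, n 3 1, ?_⟩
    ext i j
    fin_cases i <;> fin_cases j
    all_goals first | exact h0 _ _ (by decide +kernel) | rfl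
  have e2 : n ^ 2 = !![a * c, 0, 0, 0; 0, b * d, 0, 0; 0, 0, c * a, 0; 0, 0, 0, d * b] := by
    rw [pow_two, e]
    ext i j
    fin_cases i <;> fin_cases j <;> simp [Matrix.mul_apply, Fin.sum_univ_four]
  have h5' : n ^ 2 * n ^ 2 * n = 0 := by rw [← pow_add, ← pow_succ]; exact h5
  rw [e2, e] at h5'
  have h6 := congrFun (congrFun h5' 0) 2
  have h7 := congrFun (congrFun h5' 1) 3
  have hac : a * c = 0 := by
    have : a * c * (a * c) * a = 0 := by simpa [Matrix.mul_apply, Fin.sum_univ_four] using h6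
    rcases mz _ _ this with h8 | h8
    · rcases mz _ _ h8 with h8 | h8 <;> exact h8
    · rw [h8, zero_mul]
  have hbd : b * d = 0 := by
    have : b * d * (b * d) * b = 0 := by simpa [Matrix.mul_apply, Fin.sum_univ_four] using h7
    rcases mz _ _ this with h8 | h8
    · rcases mz _ _ h8 with h8 | h8 <;> exact h8
    · rw [h8, zero_mul]
  apply h3
  rw [pow_succ, e2, mul_comm c a, mul_comm d b, hac, hbd]
  ext i j
  fin_cases i <;> fin_cases j <;> simp [Matrix.mul_apply, Fin.sum_univ_four]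

theorem key3 : ∀ a b c d : ZMod 5, 3 * c = 4 * a → a * b * (c * d * a) = 0 →
    ¬ (a * b * c = 0 ∧ b * c * d = 0 ∧ c * d * a = 0 ∧ d * a * b = 0) →
    c = 3 * a ∧ a ≠ 0 ∧ ((b = 0 ∧ d ≠ 0) ∨ (b ≠ 0 ∧ d = 0)) := by decide +kernel

/-- shape for `k = 3` -/
theorem three_shape {v : M5ˣ} (h : Good v 3) : ∃ a b c d : ZMod 5,
    lg ((v : M5) - 1) = !![0, a, 0, 0; 0, 0, b, 0; 0, 0, 0, c; d, 0, 0, 0] ∧ c = 3 * a ∧ a ≠ 0 ∧
      ((b = 0 ∧ d ≠ 0) ∨ (b ≠ 0 ∧ d = 0)) := by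
  have hw := weight h.five (Or.inr (Or.inr (Or.inl rfl))) h.conj
  have h5 := h.lg5
  have h3 := h.cube'
  have hO := Om_lg h.five h.iso
  generalize lg ((v : M5) - 1) = n at hw h5 h3 hO
  have h0 : ∀ i j : Fin 4, dd i - (3 : ℕ) * dd j ≠ 0 → n i j = 0 := fun i j hij =>
    (mz _ _ (hw i j)).resolve_left hij
  obtain ⟨a, b, c, d, e⟩ : ∃ a b c d : ZMod 5, n = !![0, a, 0, 0; 0, 0, b, 0; 0, 0, 0, c; d, 0, 0, 0] := by
    refine ⟨n 0 1, n 1 2, n 2 3, n 3 0, ?_⟩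
    ext i j
    fin_cases i <;> fin_cases j
    all_goals first | exact h0 _ _ (by decide +kernel) | rfl
  have e2 : n ^ 2 = !![0, 0, a * b, 0; 0, 0, 0, b * c; c * d, 0, 0, 0; 0, d * a, 0, 0] := by
    rw [pow_two, e]
    ext i j
    fin_cases i <;> fin_cases j <;> simp [Matrix.mul_apply, Fin.sum_univ_four]
  have e3 : n ^ 3 = !![0, 0, 0, a * b * c; b * c * d, 0, 0, 0; 0, c * d * a, 0, 0; 0, 0, d * a * b, 0] := by
    rw [pow_succ, e2, e]
    ext i j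
    fin_cases i <;> fin_cases j <;> simp [Matrix.mul_apply, Fin.sum_univ_four]
  have hO' := congrFun (congrFun hO 1) 3
  rw [e] at hO'
  have h5' : n ^ 2 * n ^ 3 = 0 := by rw [← pow_add]; exact h5
  rw [e2, e3] at h5'
  have h6 := congrFun (congrFun h5' 0) 1
  have h6' : a * b * (c * d * a) = 0 := by simpa [Matrix.mul_apply, Fin.sum_univ_four] using h6
  have hO2 : 3 * c = 4 * a := by simpa [Om, Matrix.mul_apply, Fin.sum_univ_four] using hO'
  refine ⟨a, b, c, d, e, ?_⟩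
  have h7 : ¬ (a * b * c = 0 ∧ b * c * d = 0 ∧ c * d * a = 0 ∧ d * a * b = 0) := by
    rintro ⟨q1, q2, q3, q4⟩
    apply h3
    rw [e3, q1, q2, q3, q4]
    ext i j
    fin_cases i <;> fin_cases j <;> rfl
  exact key3 a b c d hO2 h6' h7

theorem key2 : ∀ a b c d : ZMod 5, d = 4 * b * 3 → a * d * (c * b * a) = 0 →
    ¬ (a * d * c = 0 ∧ b * a * d = 0 ∧ c * b * a = 0 ∧ d * c * b = 0) →
    d = 2 * b ∧ b ≠ 0 ∧ ((a = 0 ∧ c ≠ 0) ∨ (a ≠ 0 ∧ c = 0)) := by decide +kernel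

/-- shape for `k = 2` -/
theorem two_shape {v : M5ˣ} (h : Good v 2) : ∃ a b c d : ZMod 5,
    lg ((v : M5) - 1) = !![0, 0, 0, a; b, 0, 0, 0; 0, c, 0, 0; 0, 0, d, 0] ∧ d = 2 * b ∧ b ≠ 0 ∧
      ((a = 0 ∧ c ≠ 0) ∨ (a ≠ 0 ∧ c = 0)) := by
  have hw := weight h.five (Or.inr (Or.inl rfl)) h.conj
  have h5 := h.lg5
  have h3 := h.cube'
  have hO := Om_lg h.five h.iso
  generalize lg ((v : M5) - 1) = n at hw h5 h3 hO
  have h0 : ∀ i j : Fin 4, dd i - (2 : ℕ) * dd j ≠ 0 → n i j = 0 := fun i j hij =>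
    (mz _ _ (hw i j)).resolve_left hij
  obtain ⟨a, b, c, d, e⟩ : ∃ a b c d : ZMod 5, n = !![0, 0, 0, a; b, 0, 0, 0; 0, c, 0, 0; 0, 0, d, 0] := by
    refine ⟨n 0 3, n 1 0, n 2 1, n 3 2, ?_⟩
    ext i j
    fin_cases i <;> fin_cases j
    all_goals first | exact h0 _ _ (by decide +kernel) | rfl
  have e2 : n ^ 2 = !![0, 0, a * d, 0; 0, 0, 0, b * a; c * b, 0, 0, 0; 0, d * c, 0, 0] := by
    rw [pow_two, e]
    ext i j
    fin_cases i <;> fin_cases j <;> simp [Matrix.mul_apply, Fin.sum_univ_four]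
  have e3 : n ^ 3 = !![0, a * d * c, 0, 0; 0, 0, b * a * d, 0; 0, 0, 0, c * b * a; d * c * b, 0, 0, 0] := by
    rw [pow_succ, e2, e]
    ext i j
    fin_cases i <;> fin_cases j <;> simp [Matrix.mul_apply, Fin.sum_univ_four]
  have hO' := congrFun (congrFun hO 0) 2
  rw [e] at hO'
  have h5' : n ^ 2 * n ^ 3 = 0 := by rw [← pow_add]; exact h5
  rw [e2, e3] at h5'
  have h6 := congrFun (congrFun h5' 0) 3
  have h6' : a * d * (c * b * a) = 0 := by simpa [Matrix.mul_apply, Fin.sum_univ_four] using h6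
  have hO2 : d = 4 * b * 3 := by simpa [Om, Matrix.mul_apply, Fin.sum_univ_four] using hO'
  refine ⟨a, b, c, d, e, ?_⟩
  have h7 : ¬ (a * d * c = 0 ∧ b * a * d = 0 ∧ c * b * a = 0 ∧ d * c * b = 0) := by
    rintro ⟨q1, q2, q3, q4⟩
    apply h3
    rw [e3, q1, q2, q3, q4]
    ext i j
    fin_cases i <;> fin_cases j <;> rfl
  exact key2 a b c d hO2 h6' h7

/-! ### scaling: a power of `v` is one of 16 matrices -/

theorem lg_of_pow {v : M5ˣ} {k : ℕ} (h : Good v k) {j : ℕ} (hj : j = 1 ∨ j = 2 ∨ j = 3 ∨ j = 4) :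
    (v : M5) ^ j = ep (j • lg ((v : M5) - 1)) := by
  have hx := sub_pow_five h.five'
  have h1 := lg_pow hx hj
  rw [add_sub_cancel] at h1
  have h2 : ((v : M5) ^ j - 1) ^ 5 = 0 := by
    apply sub_pow_five
    rw [← pow_mul, mul_comm, pow_mul, h.five', one_pow]
  rw [← h1, ep_lg h2, add_sub_cancel]

/-- the representatives -/
def rep3 (t : Fin 8) : M5 :=
  match t with
  | 0 => !![1, 1, 0, 0; 0, 1, 0, 0; 4, 3, 1, 3; 1, 3, 0, 1]
  | 1 => !![1, 1, 0, 0; 0, 1, 0, 0; 3, 1, 1, 3; 2, 1, 0, 1]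
  | 2 => !![1, 1, 0, 0; 0, 1, 0, 0; 2, 4, 1, 3; 3, 4, 0, 1]
  | 3 => !![1, 1, 0, 0; 0, 1, 0, 0; 1, 2, 1, 3; 4, 2, 0, 1]
  | 4 => !![1, 1, 3, 3; 0, 1, 1, 4; 0, 0, 1, 3; 0, 0, 0, 1]
  | 5 => !![1, 1, 1, 1; 0, 1, 2, 3; 0, 0, 1, 3; 0, 0, 0, 1]
  | 6 => !![1, 1, 4, 4; 0, 1, 3, 2; 0, 0, 1, 3; 0, 0, 0, 1]
  | 7 => !![1, 1, 2, 2; 0, 1, 4, 1; 0, 0, 1, 3; 0, 0, 0, 1]

def rep2 (t : Fin 8) : M5 :=
  match t with
  | 0 => !![1, 0, 0, 0; 1, 1, 0, 0; 3, 1, 1, 0; 2, 1, 2, 1]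
  | 1 => !![1, 0, 0, 0; 1, 1, 0, 0; 1, 2, 1, 0; 4, 2, 2, 1]
  | 2 => !![1, 0, 0, 0; 1, 1, 0, 0; 4, 3, 1, 0; 1, 3, 2, 1]
  | 3 => !![1, 0, 0, 0; 1, 1, 0, 0; 2, 4, 1, 0; 3, 4, 2, 1]
  | 4 => !![1, 0, 1, 1; 1, 1, 2, 3; 0, 0, 1, 0; 0, 0, 2, 1]
  | 5 => !![1, 0, 2, 2; 1, 1, 4, 1; 0, 0, 1, 0; 0, 0, 2, 1]
  | 6 => !![1, 0, 3, 3; 1, 1, 1, 4; 0, 0, 1, 0; 0, 0, 2, 1]
  | 7 => !![1, 0, 4, 4; 1, 1, 3, 2; 0, 0, 1, 0; 0, 0, 2, 1]

theorem scale : ∀ a : ZMod 5, a ≠ 0 → ∃ j : Fin 4, ((j : ℕ) + 1 : ℕ) * a = 1 := by decide +kernel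

theorem ep3 : (∀ t : ZMod 5, t ≠ 0 → ∃ i : Fin 8, ep (!![0, 1, 0, 0; 0, 0, 0, 0; 0, 0, 0, 3; t, 0, 0, 0] : M5) = rep3 i) ∧
    (∀ t : ZMod 5, t ≠ 0 → ∃ i : Fin 8, ep (!![0, 1, 0, 0; 0, 0, t, 0; 0, 0, 0, 3; 0, 0, 0, 0] : M5) = rep3 i) := by
  unfold ep
  decide +kernel

theorem ep2 : (∀ t : ZMod 5, t ≠ 0 → ∃ i : Fin 8, ep (!![0, 0, 0, 0; 1, 0, 0, 0; 0, t, 0, 0; 0, 0, 2, 0] : M5) = rep2 i) ∧
    (∀ t : ZMod 5, t ≠ 0 → ∃ i : Fin 8, ep (!![0, 0, 0, t; 1, 0, 0, 0; 0, 0, 0, 0; 0, 0, 2, 0] : M5) = rep2 i) := by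
  unfold ep
  decide +kernel

theorem mul_ne : ∀ (x j a : ZMod 5), j * a = 1 → x ≠ 0 → j * x ≠ 0 := by decide +kernel

theorem reps_three {v : M5ˣ} (h : Good v 3) : ∃ j : ℕ, ∃ i : Fin 8, (v : M5) ^ j = rep3 i := by
  obtain ⟨a, b, c, d, e, hc, ha, hbd⟩ := three_shape h
  obtain ⟨j, hj⟩ := scale a ha
  have hj' : (j : ℕ) + 1 = 1 ∨ (j : ℕ) + 1 = 2 ∨ (j : ℕ) + 1 = 3 ∨ (j : ℕ) + 1 = 4 := by omega
  have h1 := lg_of_pow h hj'
  rw [e] at h1
  have hc' : (((j : ℕ) + 1 : ℕ) : ZMod 5) * c = 3 := by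
    rw [hc]
    linear_combination 3 * hj
  have h2 : (((j : ℕ) + 1) • !![0, a, 0, 0; 0, 0, b, 0; 0, 0, 0, c; d, 0, 0, 0] : M5) =
      !![0, 1, 0, 0; 0, 0, (((j : ℕ) + 1 : ℕ) : ZMod 5) * b, 0; 0, 0, 0, 3; (((j : ℕ) + 1 : ℕ) : ZMod 5) * d, 0, 0, 0] := by
    ext r s
    rw [Matrix.smul_apply, nsmul_eq_mul]
    fin_cases r <;> fin_cases s <;>
      first
        | exact mul_zero _
        | exact hj
        | exact hc'
        | rfl
  rw [h2] at h1
  rcases hbd with ⟨hb, hd⟩ | ⟨hb, hd⟩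
  · rw [hb, mul_zero] at h1
    obtain ⟨i, hi⟩ := ep3.1 _ (mul_ne d _ a hj hd)
    exact ⟨_, i, h1.trans hi⟩
  · rw [hd, mul_zero] at h1
    obtain ⟨i, hi⟩ := ep3.2 _ (mul_ne b _ a hj hb)
    exact ⟨_, i, h1.trans hi⟩

theorem reps_two {v : M5ˣ} (h : Good v 2) : ∃ j : ℕ, ∃ i : Fin 8, (v : M5) ^ j = rep2 i := by
  obtain ⟨a, b, c, d, e, hd, hb, hac⟩ := two_shape h
  obtain ⟨j, hj⟩ := scale b hb
  have hj' : (j : ℕ) + 1 = 1 ∨ (j : ℕ) + 1 = 2 ∨ (j : ℕ) + 1 = 3 ∨ (j : ℕ) + 1 = 4 := by omega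
  have h1 := lg_of_pow h hj'
  rw [e] at h1
  have hd' : (((j : ℕ) + 1 : ℕ) : ZMod 5) * d = 2 := by
    rw [hd]
    linear_combination 2 * hj
  have h2 : (((j : ℕ) + 1) • !![0, 0, 0, a; b, 0, 0, 0; 0, c, 0, 0; 0, 0, d, 0] : M5) =
      !![0, 0, 0, (((j : ℕ) + 1 : ℕ) : ZMod 5) * a; 1, 0, 0, 0; 0, (((j : ℕ) + 1 : ℕ) : ZMod 5) * c, 0, 0; 0, 0, 2, 0] := by
    ext r s
    rw [Matrix.smul_apply, nsmul_eq_mul]
    fin_cases r <;> fin_cases s <;>
      first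
        | exact mul_zero _
        | exact hj
        | exact hd'
        | rfl
  rw [h2] at h1
  rcases hac with ⟨ha, hc⟩ | ⟨ha, hc⟩
  · rw [ha, mul_zero] at h1
    obtain ⟨i, hi⟩ := ep2.1 _ (mul_ne c _ b hj hc)
    exact ⟨_, i, h1.trans hi⟩
  · rw [hc, mul_zero] at h1
    obtain ⟨i, hi⟩ := ep2.2 _ (mul_ne a _ b hj ha)
    exact ⟨_, i, h1.trans hi⟩

/-! ### the Sylow part -/

section

theorem gA5 : gA ^ 5 = 1 := Units.ext (by rw [Units.val_pow_eq_pow_val]; exact mA5)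

theorem gA_ne : gA ≠ 1 := by
  intro h
  have h1 : mA = 1 := congrArg (fun x : M5ˣ => (x : M5)) h
  revert h1
  decide +kernel

theorem gA_conj : gh2 * gA * gh2⁻¹ = gA ^ 3 := by
  rw [mul_inv_eq_iff_eq_mul]
  refine Units.ext ?_
  rw [Units.val_mul, Units.val_mul, Units.val_pow_eq_pow_val]
  change mh2 * mA = mA ^ 3 * mh2
  decide +kernel

theorem gh24 : gh2 ^ 4 = 1 := Units.ext (by rw [Units.val_pow_eq_pow_val]; exact mh24)

theorem inv_mem_conj {L : Subgroup M5ˣ} (h : Hyp L) {g : M5ˣ} (hg : g ∈ L) : gh2⁻¹ * g * gh2 ∈ L := by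
  have h1 := h.h2 _ (h.h2 _ (h.h2 _ hg))
  have h2 : gh2⁻¹ = gh2 ^ 3 := by
    rw [inv_eq_iff_mul_eq_one, ← pow_succ', gh24]
  have h3 : gh2 = (gh2 ^ 3)⁻¹ := by rw [← h2, inv_inv]
  have h4 : gh2⁻¹ * g * gh2 = gh2 * (gh2 * (gh2 * g * gh2⁻¹) * gh2⁻¹) * gh2⁻¹ := by
    calc gh2⁻¹ * g * gh2 = gh2 ^ 3 * g * (gh2 ^ 3)⁻¹ := by rw [← h2, inv_inv]
      _ = _ := by simp only [pow_succ, pow_zero, one_mul, _root_.mul_inv_rev, mul_assoc]
  rw [h4]
  exact h1

/-- conjugation by `gh2` -/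
def phi (L : Subgroup M5ˣ) (h : Hyp L) : MulAut L where
  toFun g := ⟨gh2 * g * gh2⁻¹, h.h2 g g.2⟩
  invFun g := ⟨gh2⁻¹ * g * gh2, inv_mem_conj h g.2⟩
  left_inv g := Subtype.ext (by simp [mul_assoc])
  right_inv g := Subtype.ext (by simp [mul_assoc])
  map_mul' a b := Subtype.ext (by simp [mul_assoc])

theorem phi_pow (L : Subgroup M5ˣ) (h : Hyp L) (n : ℕ) (g : L) :
    (((phi L h) ^ n) g : M5ˣ) = gh2 ^ n * g * (gh2 ^ n)⁻¹ := by
  induction n with
  | zero => simp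
  | succ n ih =>
    rw [pow_succ', MulAut.mul_apply]
    change gh2 * (((phi L h) ^ n) g : M5ˣ) * gh2⁻¹ = _
    rw [ih, pow_succ' gh2 n]
    group

theorem phi4 (L : Subgroup M5ˣ) (h : Hyp L) : (phi L h) ^ 4 = 1 := by
  ext g
  have := phi_pow L h 4 g
  rw [gh24] at this
  rw [this]
  simp

theorem div117 : ∀ n ∈ Nat.divisors 117, n % 5 = 1 → n = 1 := by decide +kernel

theorem col_zero : ∀ k ∈ Finset.range 5, (mA ^ k) 1 0 = 0 ∧ (mA ^ k) 2 0 = 0 ∧ (mA ^ k) 3 0 = 0 := by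
  decide +kernel

theorem exists_v {L : Subgroup M5ˣ} (h : Hyp L) (hd : Nat.card L ∣ 2 ^ 7 * 3 ^ 2 * 5 * 13) :
    ∃ v ∈ L, v ^ 5 = 1 ∧ v ≠ 1 ∧ (∃ k : ℕ, gh2 * v * gh2⁻¹ = v ^ k) ∧ gA ∉ Subgroup.zpowers v := by
  classical
  have hp5 : Fact (Nat.Prime 5) := ⟨by norm_num⟩
  have hfin : Finite M5ˣ := inferInstance
  set a : L := ⟨gA, h.memA⟩ with ha
  have ha5 : a ^ 5 = 1 := Subtype.ext gA5
  have ha1 : a ≠ 1 := fun h1 => gA_ne (congrArg Subtype.val h1)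
  have hao : orderOf a = 5 := orderOf_eq_prime ha5 ha1
  have hgAo : orderOf gA = 5 := orderOf_eq_prime gA5 gA_ne
  have h5d : 5 ∣ Nat.card L := by
    have := orderOf_dvd_natCard a
    rwa [hao] at this
  have hcard0 : Nat.card L ≠ 0 := Nat.card_pos.ne'
  have hfac : (Nat.card L).factorization 5 = 1 := by
    apply le_antisymm
    · by_contra hne
      push Not at hne
      have h1 : 5 ^ 2 ∣ Nat.card L := (Nat.Prime.pow_dvd_iff_le_factorization (by norm_num) hcard0).2 hne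
      exact h.card (by simpa using h1)
    · exact (Nat.Prime.pow_dvd_iff_le_factorization (by norm_num) hcard0).1 (by simpa using h5d)
  have hSc : ∀ P : Sylow 5 L, Nat.card P = 5 := by
    intro P
    rw [P.card_eq_multiplicity, hfac, pow_one]
  let T : Sylow 5 L := Sylow.ofCard (Subgroup.zpowers a) (by rw [Nat.card_zpowers, hao, hfac, pow_one])
  have hT : (T : Subgroup L) = Subgroup.zpowers a := rfl
  have hidx : (T : Subgroup L).index * 5 = Nat.card L := by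
    have := (T : Subgroup L).index_mul_card
    rwa [show Nat.card (T : Subgroup L) = 5 from hSc T] at this
  have hn5 : Nat.card (Sylow 5 L) ∣ (T : Subgroup L).index := T.card_dvd_index
  have hmod : Nat.card (Sylow 5 L) ≡ 1 [MOD 5] := card_sylow_modEq_one 5 L
  have hidx2 : (T : Subgroup L).index ∣ 2 ^ 7 * 117 := by
    have h1 : (T : Subgroup L).index * 5 ∣ (2 ^ 7 * 117) * 5 := by
      rw [hidx]
      refine hd.trans (dvd_of_eq (by norm_num))
    exact Nat.dvd_of_mul_dvd_mul_right (by norm_num) h1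
  -- evenness
  have heven : 2 ∣ Nat.card (Sylow 5 L) := by
    by_contra hodd
    have hcop : Nat.Coprime (Nat.card (Sylow 5 L)) (2 ^ 7) :=
      Nat.Coprime.pow_right _ ((Nat.Prime.coprime_iff_not_dvd Nat.prime_two).2 hodd).symm
    have h117 : Nat.card (Sylow 5 L) ∣ 117 := hcop.dvd_of_dvd_mul_left (hn5.trans hidx2)
    have hone : Nat.card (Sylow 5 L) = 1 :=
      div117 _ (Nat.mem_divisors.2 ⟨h117, by norm_num⟩) hmod
    obtain ⟨hsub, -⟩ := Nat.card_eq_one_iff_unique.1 hone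
    apply h.irr1
    intro g hg
    have hLz : L ≤ Subgroup.zpowers gA := by
      refine h.gen.trans ((Subgroup.closure_le _).2 ?_)
      rintro x ⟨hxL, hx5⟩
      by_cases hx1 : x = 1
      · rw [hx1]; exact Subgroup.one_mem _
      have hx1' : (⟨x, hxL⟩ : L) ≠ 1 := fun h1 => hx1 (congrArg Subtype.val h1)
      have hxo : orderOf (⟨x, hxL⟩ : L) = 5 := orderOf_eq_prime (Subtype.ext hx5) hx1'
      have hpg : IsPGroup 5 (Subgroup.zpowers (⟨x, hxL⟩ : L)) :=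
        IsPGroup.of_card (n := 1) (by rw [Nat.card_zpowers, hxo, pow_one])
      obtain ⟨Q, hQ⟩ := hpg.exists_le_sylow
      have hQT : Q = T := Subsingleton.elim _ _
      have h1 : (⟨x, hxL⟩ : L) ∈ Subgroup.zpowers a := by
        rw [← hT, ← hQT]
        exact hQ (Subgroup.mem_zpowers _)
      obtain ⟨k, hk⟩ := Subgroup.mem_zpowers_iff.1 h1
      refine Subgroup.mem_zpowers_iff.2 ⟨k, ?_⟩
      have := congrArg Subtype.val hk
      simpa [ha] using this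
    have h1 := hLz hg
    rw [(isOfFinOrder_of_finite gA).mem_zpowers_iff_mem_range_orderOf, hgAo, Finset.mem_image] at h1
    obtain ⟨k, hk, rfl⟩ := h1
    rw [Units.val_pow_eq_pow_val]
    exact col_zero k hk
  -- the action
  have hP2 : IsPGroup 2 (Subgroup.zpowers (phi L h)) := by
    rintro ⟨x, hx⟩
    obtain ⟨z, rfl⟩ := Subgroup.mem_zpowers_iff.1 hx
    refine ⟨2, Subtype.ext ?_⟩
    change ((phi L h) ^ z) ^ (2 ^ 2) = 1
    rw [← zpow_natCast, ← _root_.zpow_mul, mul_comm, _root_.zpow_mul, zpow_natCast]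
    norm_num
    rw [phi4, _root_.one_zpow]
  have hTfix : phi L h • T = T := by
    apply Sylow.ext
    rw [Sylow.pointwise_smul_def]
    refine Subgroup.eq_of_le_of_card_ge ?_ ?_
    · rw [hT]
      intro x hx
      rw [Subgroup.mem_pointwise_smul_iff_inv_smul_mem] at hx
      obtain ⟨k, hk⟩ := Subgroup.mem_zpowers_iff.1 hx
      have h1 : x = (phi L h) (a ^ k) := by
        rw [hk]
        change x = (phi L h) ((phi L h)⁻¹ x)
        rw [← MulAut.mul_apply, mul_inv_cancel, MulAut.one_apply]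
      rw [h1, map_zpow]
      have h2 : (phi L h) a = a ^ 3 := Subtype.ext gA_conj
      rw [h2]
      exact Subgroup.zpow_mem _ (Subgroup.pow_mem _ (Subgroup.mem_zpowers _) _) _
    · have h1 := hSc (phi L h • T)
      have h2 := hSc T
      rw [show Nat.card (T : Subgroup L) = 5 from h2,
        show Nat.card ((phi L h) • (T : Subgroup L) : Subgroup L) = 5 from h1]
  have hTmem : T ∈ MulAction.fixedPoints (Subgroup.zpowers (phi L h)) (Sylow 5 L) := by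
    rintro ⟨x, hx⟩
    have h1 : Subgroup.zpowers (phi L h) ≤ MulAction.stabilizer (MulAut L) T := by
      rw [Subgroup.zpowers_le, MulAction.mem_stabilizer_iff]
      exact hTfix
    exact MulAction.mem_stabilizer_iff.1 (h1 hx)
  obtain ⟨P, hPfix, hPT⟩ := hP2.exists_fixed_point_of_prime_dvd_card_of_fixed_point (Sylow 5 L) heven hTmem
  have hPphi : phi L h • P = P := hPfix ⟨phi L h, Subgroup.mem_zpowers _⟩
  -- a generator
  have hPc : Nat.card (P : Subgroup L) = 5 := hSc P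
  have hcyc : IsCyclic (P : Subgroup L) := isCyclic_of_prime_card hPc
  obtain ⟨v, hv⟩ := hcyc.exists_generator
  have hvo : orderOf v = 5 := by
    rw [orderOf_eq_card_of_forall_mem_zpowers hv]
    exact hPc
  have hzv : ∀ x : L, x ∈ P → ∃ k : ℕ, x = (v : L) ^ k := by
    intro x hx
    have h1 := hv ⟨x, hx⟩
    rw [(isOfFinOrder_of_finite v).mem_zpowers_iff_mem_range_orderOf, Finset.mem_image] at h1
    obtain ⟨k, -, hk⟩ := h1
    refine ⟨k, ?_⟩
    have := congrArg (fun y : (P : Subgroup L) => (y : L)) hk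
    simpa using this.symm
  refine ⟨((v : L) : M5ˣ), (v : L).2, ?_, ?_, ?_, ?_⟩
  · have h1 : v ^ 5 = 1 := by
      have := pow_orderOf_eq_one v
      rwa [hvo] at this
    have := congrArg (fun y : (P : Subgroup L) => ((y : L) : M5ˣ)) h1
    simpa using this
  · intro h1
    have h2 : v = 1 := Subtype.ext (Subtype.ext h1)
    rw [h2, orderOf_one] at hvo
    omega
  · have h1 : (phi L h) (v : L) ∈ (P : Subgroup L) := by
      have h0 : (phi L h) (v : L) ∈ ((phi L h • P : Sylow 5 L) : Subgroup L) := by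
        rw [Sylow.pointwise_smul_def]
        exact Subgroup.smul_mem_pointwise_smul _ _ _ v.2
      rwa [hPphi] at h0
    obtain ⟨k, hk⟩ := hzv _ h1
    refine ⟨k, ?_⟩
    have := congrArg (fun y : L => (y : M5ˣ)) hk
    simpa [phi] using this
  · intro h1
    obtain ⟨k, hk⟩ := Subgroup.mem_zpowers_iff.1 h1
    have h2 : a ∈ (P : Subgroup L) := by
      have h3 : a = (v : L) ^ k := Subtype.ext (by
        change gA = (((v : L) ^ k : L) : M5ˣ)
        rw [← hk]; simp)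
      rw [h3]
      exact Subgroup.zpow_mem _ v.2 k
    apply hPT
    apply Sylow.ext
    refine Subgroup.eq_of_le_of_card_ge ?_ ?_
    · rw [hT, Subgroup.zpowers_le]; exact h2
    · rw [show Nat.card (T : Subgroup L) = 5 from hSc T, hPc]

end

/-! ### the final step -/

theorem bad {L : Subgroup M5ˣ} (h : Hyp L) (hS : ∀ g ∈ L, g ^ 5 = 1 → g ≠ 1 → ((g : M5) - 1) ^ 3 ≠ 0) {w : M5ˣ}
    (hw : w ∈ L) (j e : ℕ) {W G : M5} (hW : (w : M5) = W) (hG : (mA * W ^ j) ^ e = G) (hG5 : G ^ 5 = 1) (hG1 : G ≠ 1)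
    (hG3 : (G - 1) ^ 3 = 0) : False := by
  have hmem : (gA * w ^ j) ^ e ∈ L := L.pow_mem (L.mul_mem h.memA (L.pow_mem hw j)) e
  have hval : (((gA * w ^ j) ^ e : M5ˣ) : M5) = G := by
    rw [Units.val_pow_eq_pow_val, Units.val_mul, Units.val_pow_eq_pow_val, hW]
    exact hG
  refine hS _ hmem ?_ ?_ ?_
  · refine Units.ext ?_
    rw [Units.val_pow_eq_pow_val, hval, hG5]
    rfl
  · intro h1
    rw [h1] at hval
    exact hG1 hval.symm
  · rw [hval]
    exact hG3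

theorem stM2 (h1 : StM1) : StM2 := by
  intro L h
  obtain ⟨-, hS, -, -, hd⟩ := h1 L h
  obtain ⟨v, hv, hv5, hv1, ⟨k, hk⟩, hvA⟩ := exists_v h hd
  have hk5 : v ^ k = v ^ (k % 5) := by
    conv_lhs => rw [← Nat.div_add_mod k 5, pow_add, pow_mul, hv5, one_pow, one_mul]
  rw [hk5] at hk
  have hgood : ∀ k', gh2 * v * gh2⁻¹ = v ^ k' → Good v k' := fun k' hk' =>
    ⟨hv5, hk', h.iso v hv, hS v hv hv5 hv1⟩
  have hlt : k % 5 < 5 := Nat.mod_lt _ (by norm_num)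
  generalize k % 5 = m at hk hlt
  rcases (show m = 0 ∨ m = 1 ∨ m = 2 ∨ m = 3 ∨ m = 4 by omega) with rfl | rfl | rfl | rfl | rfl
  · exfalso
    rw [pow_zero, mul_inv_eq_one] at hk
    exact hv1 (mul_eq_left.1 hk)
  · exact (not_one (hgood 1 hk)).elim
  · obtain ⟨j, i, hj⟩ := reps_two (hgood 2 hk)
    have hw : v ^ j ∈ L := L.pow_mem hv j
    rw [← Units.val_pow_eq_pow_val] at hj
    fin_cases i
    · exact (bad h hS hw 2 2 (G := !![0, 1, 1, 3; 1, 3, 2, 2; 4, 3, 4, 3; 3, 2, 2, 2]) hj (by decide +kernel) (by decide +kernel) (by decide +kernel)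
        (by decide +kernel)).elim
    · left
      rwa [show gS = v ^ j from Units.ext hj.symm]
    · exact (bad h hS hw 2 1 (G := !![1, 2, 2, 1; 2, 2, 4, 4; 4, 3, 0, 1; 3, 2, 4, 1]) hj (by decide +kernel) (by decide +kernel) (by decide +kernel)
        (by decide +kernel)).elim
    · right; right; right; left
      rwa [show gB = v ^ j from Units.ext hj.symm]
    · exact (bad h hS hw 1 3 (G := !![1, 0, 2, 2; 0, 1, 2, 4; 0, 0, 1, 0; 0, 0, 0, 1]) hj (by decide +kernel) (by decide +kernel) (by decide +kernel)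
        (by decide +kernel)).elim
    · right; right; right; right
      have h2 : gP = (v ^ j) ^ 3 := Units.ext (by
        rw [Units.val_pow_eq_pow_val, hj]
        change mP = rep2 5 ^ 3
        decide +kernel)
      rw [h2]
      exact L.pow_mem hw 3
    · exact (bad h hS hw 3 2 (G := !![0, 1, 0, 1; 4, 2, 2, 0; 0, 0, 0, 3; 0, 0, 3, 2]) hj (by decide +kernel) (by decide +kernel) (by decide +kernel)
        (by decide +kernel)).elim
    · exact (bad h hS hw 1 3 (G := !![1, 0, 1, 1; 0, 1, 1, 2; 0, 0, 1, 0; 0, 0, 0, 1]) hj (by decide +kernel) (by decide +kernel) (by decide +kernel)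
        (by decide +kernel)).elim
  · obtain ⟨j, i, hj⟩ := reps_three (hgood 3 hk)
    have hw : v ^ j ∈ L := L.pow_mem hv j
    rw [← Units.val_pow_eq_pow_val] at hj
    fin_cases i
    · exact (bad h hS hw 3 2 (G := !![0, 0, 4, 4; 0, 0, 4, 3; 2, 4, 2, 0; 4, 1, 0, 2]) hj (by decide +kernel) (by decide +kernel) (by decide +kernel)
        (by decide +kernel)).elim
    · exact (bad h hS hw 1 6 (G := !![1, 2, 2, 3; 0, 2, 1, 4; 0, 4, 0, 1; 0, 0, 0, 1]) hj (by decide +kernel) (by decide +kernel) (by decide +kernel)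
        (by decide +kernel)).elim
    · right; left
      rwa [show gR = v ^ j from Units.ext hj.symm]
    · right; right; left
      rwa [show gC = v ^ j from Units.ext hj.symm]
    · exact (bad h hS hw 2 1 (G := !![1, 4, 4, 0; 0, 1, 0, 3; 0, 0, 1, 2; 0, 0, 0, 1]) hj (by decide +kernel) (by decide +kernel) (by decide +kernel)
        (by decide +kernel)).elim
    · exact (bad h hS hw 1 1 (G := !![1, 3, 3, 2; 0, 1, 0, 1; 0, 0, 1, 4; 0, 0, 0, 1]) hj (by decide +kernel) (by decide +kernel) (by decide +kernel)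
        (by decide +kernel)).elim
    · exact (bad h hS hw 3 1 (G := !![1, 0, 2, 2; 0, 1, 2, 4; 0, 0, 1, 0; 0, 0, 0, 1]) hj (by decide +kernel) (by decide +kernel) (by decide +kernel)
        (by decide +kernel)).elim
    · exfalso
      apply hvA
      have h2 : gA = (v ^ j) ^ 2 := Units.ext (by
        rw [Units.val_pow_eq_pow_val, hj]
        change mA = rep3 7 ^ 2
        decide +kernel)
      rw [h2]
      exact Subgroup.pow_mem _ (Subgroup.pow_mem _ (Subgroup.mem_zpowers v) j) 2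
  · exact (four_shape (hgood 4 hk)).elim

end Cfsg.Agent.H117.Q5
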