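import Cfsg.Agent.H117.Q5.StM2

/-!
# S5211, block q = 5: the strong form of (M2) (helper117)
-/

set_option autoImplicit false

namespace Cfsg.Agent.H117.Q5

open Matrix Cfsg.Agent.H24.Q5

theorem inv5 : ∀ m : Fin 5, m ≠ 0 → ∃ t : Fin 5, ((m : ℕ) * t) % 5 = 1 := by decide

/-- a `gh2`-invariant subgroup of order 5 of `L` is one of six -/
theorem stM2s (h1 : StM1) : ∀ L : Subgroup M5ˣ, Hyp L → ∀ x ∈ L, x ^ 5 = 1 → x ≠ 1 →
    (∃ k : ℕ, gh2 * x * gh2⁻¹ = x ^ k) →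
    ∃ j : ℕ, x = gA ^ j ∨ x ^ j = gS ∨ x ^ j = gR ∨ x ^ j = gC ∨ x ^ j = gB ∨ x ^ j = gP := by
  rintro L h v hv hv5 hv1 ⟨k, hk⟩
  obtain ⟨-, hS, -, -, -⟩ := h1 L h
  have hk5 : v ^ k = v ^ (k % 5) := by
    conv_lhs => rw [← Nat.div_add_mod k 5, pow_add, pow_mul, hv5, one_pow, one_mul]
  rw [hk5] at hk
  have hgood : ∀ k', gh2 * v * gh2⁻¹ = v ^ k' → Good v k' := fun k' hk' =>
    ⟨hv5, hk', h.iso v hv, hS v hv hv5 hv1⟩
  have hlt : k % 5 < 5 := Nat.mod_lt _ (by norm_num)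
  generalize k % 5 = m at hk hlt
  rcases (show m = 0 ∨ m = 1 ∨ m = 2 ∨ m = 3 ∨ m = 4 by omega) with rfl | rfl | rfl | rfl | rfl
  · exfalso
    rw [pow_zero, mul_inv_eq_one] at hk
    exact hv1 (mul_eq_left.1 hk)
  · exact (not_one (hgood 1 hk)).elim
  · obtain ⟨j, i, hj⟩ := reps_two (hgood 2 hk)
    have hw : v ^ j ∈ L := L.pow_mem hv j
    rw [← Units.val_pow_eq_pow_val] at hj
    fin_cases i
    · exact (bad h hS hw 2 2 (G := !![0, 1, 1, 3; 1, 3, 2, 2; 4, 3, 4, 3; 3, 2, 2, 2]) hj (by decide +kernel) (by decide +kernel) (by decide +kernel)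
        (by decide +kernel)).elim
    · exact ⟨j, Or.inr (Or.inl (Units.ext hj))⟩
    · exact (bad h hS hw 2 1 (G := !![1, 2, 2, 1; 2, 2, 4, 4; 4, 3, 0, 1; 3, 2, 4, 1]) hj (by decide +kernel) (by decide +kernel) (by decide +kernel)
        (by decide +kernel)).elim
    · exact ⟨j, Or.inr (Or.inr (Or.inr (Or.inr (Or.inl (Units.ext hj)))))⟩
    · exact (bad h hS hw 1 3 (G := !![1, 0, 2, 2; 0, 1, 2, 4; 0, 0, 1, 0; 0, 0, 0, 1]) hj (by decide +kernel) (by decide +kernel) (by decide +kernel)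
        (by decide +kernel)).elim
    · have h2 : (v ^ j) ^ 3 = gP := Units.ext (by
        rw [Units.val_pow_eq_pow_val, hj]
        change rep2 5 ^ 3 = mP
        decide +kernel)
      refine ⟨j * 3, Or.inr (Or.inr (Or.inr (Or.inr (Or.inr ?_))))⟩
      rw [pow_mul, h2]
    · exact (bad h hS hw 3 2 (G := !![0, 1, 0, 1; 4, 2, 2, 0; 0, 0, 0, 3; 0, 0, 3, 2]) hj (by decide +kernel) (by decide +kernel) (by decide +kernel)
        (by decide +kernel)).elim
    · exact (bad h hS hw 1 3 (G := !![1, 0, 1, 1; 0, 1, 1, 2; 0, 0, 1, 0; 0, 0, 0, 1]) hj (by decide +kernel) (by decide +kernel) (by decide +kernel)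
        (by decide +kernel)).elim
  · obtain ⟨j, i, hj⟩ := reps_three (hgood 3 hk)
    have hw : v ^ j ∈ L := L.pow_mem hv j
    rw [← Units.val_pow_eq_pow_val] at hj
    fin_cases i
    · exact (bad h hS hw 3 2 (G := !![0, 0, 4, 4; 0, 0, 4, 3; 2, 4, 2, 0; 4, 1, 0, 2]) hj (by decide +kernel) (by decide +kernel) (by decide +kernel)
        (by decide +kernel)).elim
    · exact (bad h hS hw 1 6 (G := !![1, 2, 2, 3; 0, 2, 1, 4; 0, 4, 0, 1; 0, 0, 0, 1]) hj (by decide +kernel) (by decide +kernel) (by decide +kernel)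
        (by decide +kernel)).elim
    · exact ⟨j, Or.inr (Or.inr (Or.inl (Units.ext hj)))⟩
    · exact ⟨j, Or.inr (Or.inr (Or.inr (Or.inl (Units.ext hj))))⟩
    · exact (bad h hS hw 2 1 (G := !![1, 4, 4, 0; 0, 1, 0, 3; 0, 0, 1, 2; 0, 0, 0, 1]) hj (by decide +kernel) (by decide +kernel) (by decide +kernel)
        (by decide +kernel)).elim
    · exact (bad h hS hw 1 1 (G := !![1, 3, 3, 2; 0, 1, 0, 1; 0, 0, 1, 4; 0, 0, 0, 1]) hj (by decide +kernel) (by decide +kernel) (by decide +kernel)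
        (by decide +kernel)).elim
    · exact (bad h hS hw 3 1 (G := !![1, 0, 2, 2; 0, 1, 2, 4; 0, 0, 1, 0; 0, 0, 0, 1]) hj (by decide +kernel) (by decide +kernel) (by decide +kernel)
        (by decide +kernel)).elim
    · have h2 : v ^ (j * 2) = gA := Units.ext (by
        rw [pow_mul, Units.val_pow_eq_pow_val, hj]
        change rep3 7 ^ 2 = mA
        decide +kernel)
      have h3 : (j * 2) % 5 ≠ 0 := by
        intro h3
        apply gA_ne
        rw [← h2]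
        obtain ⟨c, hc⟩ := Nat.dvd_of_mod_eq_zero h3
        rw [hc, pow_mul, hv5, one_pow]
      have hl : (j * 2) % 5 < 5 := Nat.mod_lt _ (by norm_num)
      obtain ⟨t, ht⟩ := inv5 ⟨(j * 2) % 5, hl⟩ (fun h4 => h3 (congrArg Fin.val h4))
      refine ⟨t, Or.inl ?_⟩
      rw [← h2, ← pow_mul]
      have h4 : (j * 2 * (t : ℕ)) % 5 = 1 := by
        rw [Nat.mul_mod]
        simpa [Nat.mul_mod] using ht
      conv_rhs => rw [← Nat.div_add_mod (j * 2 * (t : ℕ)) 5, pow_add, pow_mul, hv5, one_pow, one_mul, h4, pow_one]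
  · exact (four_shape (hgood 4 hk)).elim

end Cfsg.Agent.H117.Q5
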